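import Cfsg.Agent.SporB.Fi23.Class

/-!
The presented Fi23 on its 31671 transpositions: a transposition is named by its point, an element commutes
with it exactly when it fixes the point.
-/

set_option autoImplicit false
set_option maxRecDepth 100000

namespace Cfsg.Agent.OddLocal44.M23.Fi

open Cfsg.Agent.CosetEnum
open Cfsg.Agent.CosetEnum.Fi23 (pres rep nodup)

/-- The group. -/
abbrev Gp : Type := pres.Gp

instance : Finite Gp := Fi23.finite

/-- The points. -/
abbrev Pt : Type := Fin Fi23.Rep.tbl.n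

/-- The action on the points. -/
noncomputable def act : Gp →* Equiv.Perm Pt := rep.hom nodup

/-- The element of a word. -/
noncomputable def ev (W : List ℕ) : Gp := evalWord pres.val W

/-- The point of the second letter. -/
noncomputable def pb : Pt := ⟨8004, by decide⟩

theorem lt_n {q : ℕ} (h : q < 31671) : q < Fi23.Rep.tbl.n := h

theorem ev_append (u v : List ℕ) : ev (u ++ v) = ev u * ev v := evalWord_append _ u v

theorem ev_reverse (u : List ℕ) : ev u.reverse = (ev u)⁻¹ := Fi23.inv_word u

/-- A word acts by running its reverse. -/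
theorem act_ev {W : List ℕ} (hW : ∀ l ∈ W, l < 10) (i : Pt) :
    ((act (ev W) i : Pt) : ℕ) = Fi23.Rep.tbl.run W.reverse i := by
  have h := rep.hom_inv_apply nodup (W := W.reverse) (fun l hl => hW l (List.mem_reverse.1 hl)) i
  rw [show evalWord pres.val W.reverse = (evalWord pres.val W)⁻¹ from Fi23.inv_word W, map_inv, inv_inv] at h
  exact h

theorem act_injective : Function.Injective act := Fi23.faithful

theorem pb_spec : Nat.beq (Fi23.Rep.tbl.run Fi23.Rep.conjU 0) 8004 = true ∧ Nat.beq Fi23.Rep.conjL 1 = true ∧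
    Fi23.Rep.conjU.all (fun l => Nat.blt l 10) = true := by decide +kernel

/-- The second letter is centralised by the elements fixing its point. -/
theorem commute_b_iff (g : Gp) : Commute g (pres.val 1) ↔ act g pb = pb := by
  set U := evalWord pres.val Fi23.Rep.conjU with hU
  have hUl : ∀ l ∈ Fi23.Rep.conjU, l < 10 := fun l hl =>
    Nat.le_of_ble_eq_true (List.all_eq_true.1 pb_spec.2.2 l hl)
  have hpt : (act U)⁻¹ rep.base = pb := Fin.ext (by
    show ((((rep.hom nodup) U)⁻¹ rep.base : Pt) : ℕ) = 8004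
    rw [hU, rep.hom_inv_apply nodup hUl]
    exact Nat.eq_of_beq_eq_true pb_spec.1)
  have hz : Fi23.z = MulAut.conj U (pres.val 1) := by
    rw [Fi23.z_conj, Nat.eq_of_beq_eq_true pb_spec.2.1]
    rfl
  calc Commute g (pres.val 1) ↔ Commute (MulAut.conj U g) Fi23.z := by
        rw [hz]; exact (Commute.conj_iff U).symm
    _ ↔ MulAut.conj U g ∈ Fi23.H := by
        rw [← Fi23.centralizer_z, Subgroup.mem_centralizer_singleton_iff]
        exact ⟨fun h => h.eq, fun h => h⟩
    _ ↔ act (MulAut.conj U g) rep.base = rep.base := by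
        rw [Fi23.H_stab.1, InvPres.Rep.mem_stab]
        rfl
    _ ↔ act g pb = pb := by
        rw [MulAut.conj_apply, map_mul, map_mul, map_inv, Equiv.Perm.mul_apply, Equiv.Perm.mul_apply, hpt]
        constructor
        · intro h
          rw [← hpt]
          exact Equiv.Perm.eq_inv_iff_eq.2 (by rw [hpt]; exact h)
        · intro h
          rw [h, ← hpt, ← Equiv.Perm.mul_apply, mul_inv_cancel, Equiv.Perm.one_apply]

theorem exists_mv (q : Pt) : ∃ g : Gp, act g pb = q := by
  obtain ⟨g, hg⟩ := rep.transitive nodup Fi23.Rep.descend pb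
  obtain ⟨h, hh⟩ := rep.transitive nodup Fi23.Rep.descend q
  refine ⟨h * g⁻¹, ?_⟩
  rw [map_mul, map_inv, Equiv.Perm.mul_apply,
    show (act g)⁻¹ pb = rep.base from Equiv.Perm.inv_eq_iff_eq.2 hg.symm]
  exact hh

/-- The transposition of a point. -/
noncomputable def tr (q : Pt) : Gp := (exists_mv q).choose * pres.val 1 * (exists_mv q).choose⁻¹

theorem tr_act (g : Gp) : tr (act g pb) = g * pres.val 1 * g⁻¹ := by
  set h := (exists_mv (act g pb)).choose with hh
  have hs : act h pb = act g pb := (exists_mv (act g pb)).choose_spec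
  have hc : Commute (g⁻¹ * h) (pres.val 1) := (commute_b_iff _).2 (by
    rw [map_mul, map_inv, Equiv.Perm.mul_apply, hs, ← Equiv.Perm.mul_apply, inv_mul_cancel, Equiv.Perm.one_apply])
  show h * pres.val 1 * h⁻¹ = _
  calc h * pres.val 1 * h⁻¹ = g * (g⁻¹ * h * pres.val 1 * (g⁻¹ * h)⁻¹) * g⁻¹ := by group
    _ = _ := by rw [hc.eq, mul_inv_cancel_right]

theorem tr_conj (x : Gp) (q : Pt) : x * tr q * x⁻¹ = tr (act x q) := by
  obtain ⟨g, rfl⟩ := exists_mv q
  rw [tr_act, ← Equiv.Perm.mul_apply, ← map_mul, tr_act]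
  group

theorem commute_tr_iff (x : Gp) (q : Pt) : Commute x (tr q) ↔ act x q = q := by
  obtain ⟨g, rfl⟩ := exists_mv q
  rw [tr_act, show Commute x (g * pres.val 1 * g⁻¹) ↔
      Commute (g * (g⁻¹ * x * g) * g⁻¹) (g * pres.val 1 * g⁻¹) by
        rw [show g * (g⁻¹ * x * g) * g⁻¹ = x by group],
    Commute.conj_iff, commute_b_iff, map_mul, map_mul, map_inv, Equiv.Perm.mul_apply, Equiv.Perm.mul_apply,
    Equiv.Perm.inv_eq_iff_eq]

theorem tr_injective : Function.Injective tr := by
  intro q r e
  obtain ⟨g, rfl⟩ := exists_mv q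
  obtain ⟨h, rfl⟩ := exists_mv r
  rw [tr_act, tr_act] at e
  have hc : Commute (h⁻¹ * g) (pres.val 1) := by
    show h⁻¹ * g * pres.val 1 = pres.val 1 * (h⁻¹ * g)
    calc h⁻¹ * g * pres.val 1 = h⁻¹ * (g * pres.val 1 * g⁻¹) * g := by group
      _ = h⁻¹ * (h * pres.val 1 * h⁻¹) * g := by rw [e]
      _ = _ := by group
  have := (commute_b_iff _).1 hc
  rw [map_mul, map_inv, Equiv.Perm.mul_apply, Equiv.Perm.inv_eq_iff_eq] at this
  exact this

theorem commute_tr_tr (q r : Pt) : Commute (tr q) (tr r) ↔ act (tr q) r = r := commute_tr_iff _ _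

theorem center_eq : Subgroup.center Gp = ⊥ := by
  haveI := Fi23.simple
  rcases (inferInstance : (Subgroup.center Gp).Normal).eq_bot_or_eq_top with e | e
  · exact e
  · exfalso
    have hall : ∀ a b : Gp, a * b = b * a := fun a b =>
      (Subgroup.mem_center_iff.1 (e ▸ Subgroup.mem_top b) a)
    letI : CommGroup Gp := { (inferInstance : Group Gp) with mul_comm := hall }
    have hp := IsSimpleGroup.prime_card (α := Gp)
    rw [Fi23.card_eq] at hp
    exact absurd hp (by norm_num)

/-- An element is determined by its action on points whose transpositions generate. -/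
theorem eq_of_gen {T : Set Pt} (hT : Subgroup.closure (tr '' T) = ⊤) {x y : Gp}
    (h : ∀ q ∈ T, act x q = act y q) : x = y := by
  have hle : Subgroup.closure (tr '' T) ≤ Subgroup.centralizer {y⁻¹ * x} := by
    rw [Subgroup.closure_le]
    rintro _ ⟨q, hq, rfl⟩
    refine Subgroup.mem_centralizer_singleton_iff.2 ((commute_tr_iff _ _).2 ?_).symm.eq
    rw [map_mul, map_inv, Equiv.Perm.mul_apply, h q hq, ← Equiv.Perm.mul_apply, inv_mul_cancel,
      Equiv.Perm.one_apply]
  rw [hT] at hle
  have hm : y⁻¹ * x ∈ Subgroup.center Gp := Subgroup.mem_center_iff.2 fun g =>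
    Subgroup.mem_centralizer_singleton_iff.1 (hle (Subgroup.mem_top g))
  rw [center_eq, Subgroup.mem_bot, inv_mul_eq_one] at hm
  exact hm.symm

end Cfsg.Agent.OddLocal44.M23.Fi
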