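import Cfsg.Agent.OddLocal44.M23.Fi.Syl
import Cfsg.Agent.OddLocal44.M23.Unique
import Cfsg.Agent.OddLocal44.M23.ClassLocal

/-!
Every group of type M(23) is the presented Fi23 with the transpositions named by points; the consequences for
subgroups of order three.
-/

set_option autoImplicit false
set_option maxRecDepth 100000

namespace Cfsg.Agent.OddLocal44.M23.Fi

open Cfsg.Agent.CosetEnum
open Cfsg.Agent.CosetEnum.Fi23 (pres)

variable {G : Type*} [Group G] [Finite G] {D : Set G} {d : G}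

theorem tr_surj_conj (g : Gp) : ∃ q, tr q = g * pres.val 1 * g⁻¹ := ⟨act g pb, tr_act g⟩

theorem exists_model (hG : TT95.Cfg23 D d) [TT95.Gen D] : ∃ e : Gp ≃* G, ∀ x, x ∈ D ↔ ∃ q, e (tr q) = x := by
  obtain ⟨e', he'⟩ := exists_iso_fi23 hG
  let e : Gp ≃* G := e'
  let A : Gp := PresentedGroup.of Cfsg.Spor.Fi23.Gen.a
  have he : ∀ x, x ∈ D ↔ ∃ g : Gp, e (g * A * g⁻¹) = x := he'
  refine ⟨e, fun x => (he x).trans ?_⟩
  have hl := Syl.letter_conj 0 (by norm_num)
  set g₀ := ev (Syl.letterG.getD 0 [])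
  have ha : A = pres.val 0 := rfl
  constructor
  · rintro ⟨g, rfl⟩
    refine ⟨act (g * g₀) pb, ?_⟩
    rw [tr_act, mul_inv_rev, show g * g₀ * pres.val 1 * (g₀⁻¹ * g⁻¹) = g * (g₀ * pres.val 1 * g₀⁻¹) * g⁻¹ by group,
      hl]
    exact congrArg e (by rw [ha])
  · rintro ⟨q, rfl⟩
    obtain ⟨h, rfl⟩ := exists_mv q
    refine ⟨h * g₀⁻¹, congrArg e ?_⟩
    rw [tr_act, ha, ← hl]
    group

/-- The points fixed by a subgroup. -/
def fixSet (X : Subgroup Gp) : Set Pt := {q | ∀ x ∈ X, act x q = q}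

theorem fixSet_zpowers (y : Gp) : fixSet (Subgroup.zpowers y) = {q | act y q = q} := by
  ext q
  refine ⟨fun h => h y (Subgroup.mem_zpowers y), fun h x hx => ?_⟩
  have : Subgroup.zpowers y ≤ (MulAction.stabilizer (Equiv.Perm Pt) q).comap act := Subgroup.zpowers_le.2 h
  exact this hx

/-- Conjugation moves the fixed points. -/
theorem fixSet_map (X : Subgroup Gp) (g : Gp) :
    fixSet (X.map (MulAut.conj g).toMonoidHom) = act g '' fixSet X := by
  ext q
  constructor
  · intro h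
    refine ⟨act g⁻¹ q, fun x hx => ?_, by rw [map_inv, ← Equiv.Perm.mul_apply, mul_inv_cancel, Equiv.Perm.one_apply]⟩
    have := h _ ⟨x, hx, rfl⟩
    rw [MulEquiv.coe_toMonoidHom, MulAut.conj_apply, map_mul, map_mul, map_inv, Equiv.Perm.mul_apply,
      Equiv.Perm.mul_apply] at this
    rw [map_inv]
    apply (act g).injective
    rw [this, ← Equiv.Perm.mul_apply, mul_inv_cancel, Equiv.Perm.one_apply]
  · rintro ⟨r, hr, rfl⟩ _ ⟨x, hx, rfl⟩
    rw [MulEquiv.coe_toMonoidHom, MulAut.conj_apply, map_mul, map_mul, map_inv, Equiv.Perm.mul_apply,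
      Equiv.Perm.mul_apply, Equiv.Perm.inv_def, Equiv.symm_apply_apply, hr x hx]

theorem ncard_fixSet_map (X : Subgroup Gp) (g : Gp) :
    (fixSet (X.map (MulAut.conj g).toMonoidHom)).ncard = (fixSet X).ncard := by
  rw [fixSet_map, Set.ncard_image_of_injective _ (act g).injective]

theorem card_map_conj (X : Subgroup Gp) (g : Gp) :
    Nat.card (X.map (MulAut.conj g).toMonoidHom) = Nat.card X :=
  Subgroup.card_map_of_injective (f := (MulAut.conj g).toMonoidHom) (MulAut.conj g).injective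

theorem map_conj_mul (X : Subgroup Gp) (g h : Gp) :
    X.map (MulAut.conj (h * g)).toMonoidHom = (X.map (MulAut.conj g).toMonoidHom).map (MulAut.conj h).toMonoidHom := by
  rw [Subgroup.map_map]
  congr 1
  ext x
  simp [mul_assoc]

theorem map_conj_inv {X Y : Subgroup Gp} {g : Gp} (h : X.map (MulAut.conj g).toMonoidHom = Y) :
    Y.map (MulAut.conj g⁻¹).toMonoidHom = X := by
  rw [← h, ← map_conj_mul, inv_mul_cancel, map_one]
  exact Subgroup.map_id X

/-- A subgroup of order three fixes a point. -/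
theorem fixSet_nonempty {X : Subgroup Gp} (hX : Nat.card X = 3) : (fixSet X).Nonempty := by
  haveI := Fact.mk Nat.prime_three
  obtain ⟨⟨x, hxX⟩, hx⟩ := (isCyclic_of_prime_card hX).exists_ofOrder_eq_natCard
  rw [hX, Subgroup.orderOf_mk] at hx
  have hXx : Subgroup.zpowers x = X :=
    Subgroup.eq_of_le_of_card_ge (Subgroup.zpowers_le.2 hxX) (by rw [Nat.card_zpowers, hx, hX])
  obtain ⟨q, hq⟩ := Syl.exists_fixed (v := x) (by rw [← hx]; exact pow_orderOf_eq_one x)
  exact ⟨q, by rw [← hXx, fixSet_zpowers]; exact hq⟩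

variable (hG : TT95.Cfg23 D d) [TT95.Gen D]

include hG

/-- At most four classes under the stabiliser of a point. -/
theorem at_most_four_pt (q : Pt) : ∃ c : Subgroup Gp → Fin 4, ∀ Y Z : Subgroup Gp,
    Nat.card Y = 3 → Nat.card Z = 3 → q ∈ fixSet Y → q ∈ fixSet Z → c Y = c Z →
    ∃ g, act g q = q ∧ Y.map (MulAut.conj g).toMonoidHom = Z := by
  obtain ⟨e, he⟩ := exists_model hG
  have ha : e (tr q) ∈ D := (he _).2 ⟨q, rfl⟩
  obtain ⟨c, hc⟩ := at_most_four hG ha
  refine ⟨fun Y => c (Y.map e.toMonoidHom), fun Y Z hY hZ hYq hZq h => ?_⟩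
  have hcard : ∀ W : Subgroup Gp, Nat.card (W.map e.toMonoidHom) = Nat.card W := fun W =>
    Subgroup.card_map_of_injective (f := e.toMonoidHom) e.injective
  have hcom : ∀ W : Subgroup Gp, q ∈ fixSet W → ∀ y ∈ W.map e.toMonoidHom, Commute y (e (tr q)) := by
    rintro W hW _ ⟨w, hw, rfl⟩
    exact ((commute_tr_iff w q).2 (hW w hw)).map e.toMonoidHom
  obtain ⟨g, hg, hgm⟩ := hc _ _ ((hcard Y).trans hY) ((hcard Z).trans hZ) (hcom Y hYq) (hcom Z hZq) h
  refine ⟨e.symm g, (commute_tr_iff _ _).1 ?_, Subgroup.map_injective (f := e.toMonoidHom) e.injective ?_⟩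
  · have := hg.map e.symm.toMonoidHom
    simpa using this
  · rw [← hgm, Subgroup.map_map, Subgroup.map_map]
    congr 1
    ext y
    simp

end Cfsg.Agent.OddLocal44.M23.Fi
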