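import Cfsg.Agent.OddLocal44.M23.Fi.Sys

/-!
The checks for a Sylow 3-subgroup given by thirteen elements, and what they prove: its order, and that its
elements of order three fix a point.
-/

set_option autoImplicit false

namespace Cfsg.Agent.OddLocal44.M23.Fi

open Cfsg.Agent.CosetEnum Pcgs Sys

/-- A level of a base: the point, words fixing the earlier points, and the orbit steps (word, old, new). -/
structure Level where
  pnt : ℕ
  gens : List (List ℕ)
  steps : List (ℕ × ℕ × ℕ)

/-- The tree of cosets. -/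
inductive Node where
  | fix (q : ℕ)
  | out (j a : ℕ) (tail : List ℕ)
  | split (n0 n1 n2 : Node)
  | merge (g : List ℕ) (e : ℕ) (tail : List ℕ) (n : Node)

variable (S : Sys)

/-- The steps reach new points from reached ones. -/
noncomputable def stepsB (gens : List (List ℕ)) : List (ℕ × ℕ × ℕ) → ℕ → Bool
  | [], _ => true
  | (g, o, w) :: r, seen => Nat.blt g gens.length && Nat.blt o S.size && seen.testBit o &&
      Nat.beq (S.fold (gens.getD g []) o) w && !seen.testBit w && stepsB gens r (seen ||| 1 <<< w)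

/-- The levels. -/
noncomputable def levelsB : List Level → List ℕ → Bool
  | [], _ => true
  | l :: r, prev => Nat.blt l.pnt S.size &&
      l.gens.all (fun g => g.all (fun k => Nat.blt k 13) && prev.all fun s => Nat.beq (S.fold g s) s) &&
      stepsB S l.gens l.steps (1 <<< l.pnt) && levelsB r (l.pnt :: prev)

/-- The product of the orbit sizes. -/
def levelsSize : List Level → ℕ
  | [] => 1
  | l :: r => (l.steps.length + 1) * levelsSize r

/-- The relations: power tails and conjugation tails. -/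
noncomputable def relB (T : List ℕ) (pw : List (List ℕ)) (cj : List (List (List ℕ))) : Bool :=
  (List.range 13).all fun b =>
    ((pw.getD b []).all fun k => Nat.blt b k && Nat.blt k 13) &&
    S.eqB T [b, b, b] (pw.getD b []) &&
    (List.range b).all fun a =>
      let t := (cj.getD b []).getD a []
      (t.all fun k => Nat.blt b k && Nat.blt k 13) && S.eqB T [a, b] (t ++ [b, a])

/-- The tree below place `i` at the coset of `u`. -/
noncomputable def nodeB (T : List ℕ) : Node → ℕ → List ℕ → Bool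
  | .fix q, i, u => Nat.blt q S.size && allRange (fun j => Nat.beq (S.t j q) q) i (13 - i) &&
      Nat.beq (S.fold u q) q
  | .out j a tl, i, u => Nat.blt j i && (Nat.beq a 1 || Nat.beq a 2) &&
      (tl.all fun k => Nat.blt j k && Nat.blt k 13) && S.eqB T (u ++ u ++ u) (List.replicate a j ++ tl) &&
      Nat.blt j 13
  | .split n0 n1 n2, i, u => Nat.blt i 13 && nodeB T n0 (i + 1) u && nodeB T n1 (i + 1) (u ++ [i]) &&
      nodeB T n2 (i + 1) (u ++ [i, i])
  | .merge g e tl n, i, u => Nat.blt i 13 && (Nat.beq e 1 || Nat.beq e 2) && (g.all fun k => Nat.blt k 13) &&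
      (tl.all fun k => Nat.blt i k && Nat.blt k 13) &&
      S.eqB T (g ++ u) (u ++ List.replicate e i ++ tl ++ g) && nodeB T n (i + 1) u

variable {S} {X : ℕ → Gp}

theorem E_mem (X : ℕ → Gp) {i : ℕ} {L : List ℕ} (h : ∀ k ∈ L, i ≤ k ∧ k < 13) : E X L ∈ span X i := by
  refine list_prod_mem ?_
  intro y hy
  obtain ⟨k, hk, rfl⟩ := List.mem_map.1 hy
  exact mem_span (h k hk).1 (h k hk).2

variable (hX : ∀ k < 13, S.Acts (X k) k)

include hX

/-- The elements of the span fixing given points. -/
theorem levels_sound (hp : S.okPts = true) : ∀ (L : List Level) (prev : List ℕ),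
    (∀ s ∈ prev, s < S.size) → levelsB S L prev = true →
    levelsSize L ≤ Nat.card {g : Gp // g ∈ span X 0 ∧ ∀ s ∈ prev, act g (S.p s) = S.p s}
  | [], prev, _, _ => by
    haveI : Nonempty {g : Gp // g ∈ span X 0 ∧ ∀ s ∈ prev, act g (S.p s) = S.p s} :=
      ⟨⟨1, one_mem _, fun s _ => by rw [map_one]; rfl⟩⟩
    exact Nat.card_pos
  | l :: r, prev, hprev, h => by
    rw [levelsB] at h
    simp only [Bool.and_eq_true, Nat.blt_eq] at h
    obtain ⟨⟨⟨hlt, hg⟩, hs⟩, hr⟩ := h
    have ih := levels_sound hp r (l.pnt :: prev) (fun s hs => (List.mem_cons.1 hs).elim (fun e => e ▸ hlt) (hprev s)) hr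
    set Q : Gp → Prop := fun g => g ∈ span X 0 ∧ ∀ s ∈ prev, act g (S.p s) = S.p s
    have hmul : ∀ g k, Q g → Q k → Q (g * k) := fun g k hg hk =>
      ⟨mul_mem hg.1 hk.1, fun s hs => by rw [map_mul, Equiv.Perm.mul_apply, hk.2 s hs, hg.2 s hs]⟩
    have key : ∀ (st : List (ℕ × ℕ × ℕ)) (seen : ℕ), stepsB S l.gens st seen = true →
        (∀ s, seen.testBit s = true → s < S.size ∧ ∃ g, Q g ∧ act g (S.p l.pnt) = S.p s) →
        ∃ A : Finset ℕ, A.card = st.length ∧ (∀ s ∈ A, seen.testBit s = false ∧ s < S.size ∧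
          ∃ g, Q g ∧ act g (S.p l.pnt) = S.p s) := by
      intro st
      induction st with
      | nil => exact fun _ _ _ => ⟨∅, rfl, by simp⟩
      | cons e st ihs =>
        obtain ⟨g, o, w⟩ := e
        intro seen hst hseen
        rw [stepsB] at hst
        simp only [Bool.and_eq_true, Nat.blt_eq, Bool.not_eq_true'] at hst
        obtain ⟨⟨⟨⟨⟨hgl, -⟩, ho⟩, hw⟩, hnew⟩, hrest⟩ := hst
        obtain ⟨hoS, k, hk, hko⟩ := hseen o ho
        set W := l.gens.getD g []
        have hW := List.all_eq_true.1 hg W (by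
          show l.gens.getD g [] ∈ l.gens
          rw [List.getD_eq_getElem _ _ hgl]; exact List.getElem_mem _)
        simp only [Bool.and_eq_true, List.all_eq_true, Nat.blt_eq] at hW
        obtain ⟨hl13, hfix⟩ := hW
        obtain ⟨hwS, hact⟩ := act_E hX W hl13 o hoS
        rw [Nat.eq_of_beq_eq_true hw] at hwS hact
        have hQW : Q (E X W) := ⟨E_mem X fun k hk => ⟨Nat.zero_le _, hl13 k hk⟩, fun s hs => by
          rw [(act_E hX W hl13 s (hprev s hs)).2, Nat.eq_of_beq_eq_true (hfix s hs)]⟩
        have hnw : ∃ g', Q g' ∧ act g' (S.p l.pnt) = S.p w :=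
          ⟨E X W * k, hmul _ _ hQW hk, by rw [map_mul, Equiv.Perm.mul_apply, hko, hact]⟩
        obtain ⟨A, hA, hAs⟩ := ihs _ hrest (fun s hs => by
          rw [Nat.testBit_lor, Bool.or_eq_true] at hs
          rcases hs with hs | hs
          · exact hseen s hs
          · rw [Nat.testBit_shiftLeft, Bool.and_eq_true, decide_eq_true_eq] at hs
            have : s = w := by
              rcases Nat.eq_or_lt_of_le hs.1 with e | e
              · exact e.symm
              · obtain ⟨m, hm⟩ := Nat.exists_eq_add_of_lt e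
                have := hs.2
                rw [hm, show w + m + 1 - w = m + 1 by omega, Nat.testBit_succ] at this
                simp at this
            subst this
            exact ⟨hwS, hnw⟩)
        refine ⟨insert w A, ?_, fun s hs => ?_⟩
        · rw [Finset.card_insert_of_notMem fun hm => ?_, hA, List.length_cons]
          have := (hAs w hm).1
          rw [Nat.testBit_lor, Bool.or_eq_false_iff] at this
          simp [Nat.testBit_shiftLeft] at this
        · rcases Finset.mem_insert.1 hs with rfl | hs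
          · exact ⟨hnew, hwS, hnw⟩
          · obtain ⟨h1, h2⟩ := hAs s hs
            rw [Nat.testBit_lor, Bool.or_eq_false_iff] at h1
            exact ⟨h1.1, h2⟩
    obtain ⟨A, hA, hAs⟩ := key l.steps _ hs fun s hs' => by
      have : s = l.pnt := by
        rw [Nat.testBit_shiftLeft, Bool.and_eq_true, decide_eq_true_eq] at hs'
        rcases Nat.eq_or_lt_of_le hs'.1 with e | e
        · exact e.symm
        · obtain ⟨m, hm⟩ := Nat.exists_eq_add_of_lt e
          have := hs'.2
          rw [hm, show l.pnt + m + 1 - l.pnt = m + 1 by omega, Nat.testBit_succ] at this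
          simp at this
      exact ⟨this ▸ hlt, 1, ⟨one_mem _, fun t _ => by rw [map_one]; rfl⟩, by rw [this, map_one]; rfl⟩
    set B := insert l.pnt A
    have hB : B.card = l.steps.length + 1 := by
      rw [Finset.card_insert_of_notMem fun hm => ?_, hA]
      have := (hAs _ hm).1
      simp [Nat.testBit_shiftLeft] at this
    have hex : ∀ s : B, ∃ g, Q g ∧ act g (S.p l.pnt) = S.p s := fun s => by
      rcases Finset.mem_insert.1 s.2 with e | e
      · exact ⟨1, ⟨one_mem _, fun t _ => by rw [map_one]; rfl⟩, by rw [e, map_one]; rfl⟩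
      · exact (hAs _ e).2.2
    choose f hfQ hf using hex
    have hBS : ∀ s : B, (s : ℕ) < S.size := fun s => by
      rcases Finset.mem_insert.1 s.2 with e | e
      · rw [e]; exact hlt
      · exact (hAs _ e).2.1
    let F : B × {g : Gp // g ∈ span X 0 ∧ ∀ s ∈ l.pnt :: prev, act g (S.p s) = S.p s} → {g : Gp // Q g} :=
      fun x => ⟨f x.1 * x.2.1, hmul _ _ (hfQ x.1) ⟨x.2.2.1, fun t ht => x.2.2.2 t (List.mem_cons_of_mem _ ht)⟩⟩
    have hF : Function.Injective F := by
      rintro ⟨a, g⟩ ⟨b, k⟩ e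
      have e' : f a * g.1 = f b * k.1 := congrArg Subtype.val e
      have h1 := congrArg (fun y => act y (S.p l.pnt)) e'
      simp only [map_mul, Equiv.Perm.mul_apply, g.2.2 _ List.mem_cons_self, k.2.2 _ List.mem_cons_self, hf] at h1
      have hab : a = b := Subtype.ext ((S.p_injOn hp).2 _ (hBS a) _ (hBS b) h1)
      subst hab
      exact Prod.ext rfl (Subtype.ext (mul_left_cancel e'))
    have h2 := Nat.card_le_card_of_injective F hF
    rw [Nat.card_prod, Nat.card_eq_finsetCard, hB] at h2
    exact le_trans (Nat.mul_le_mul_left _ ih) h2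

variable {T : List ℕ} (hT : S.Tests T)

include hT

theorem rel_sound {pw : List (List ℕ)} {cj : List (List (List ℕ))} (h : relB S T pw cj = true) : Rel X := by
  have hall := List.all_eq_true.1 h
  constructor
  · intro b hb
    have e := hall b (List.mem_range.2 hb)
    simp only [Bool.and_eq_true, List.all_eq_true, Nat.blt_eq] at e
    obtain ⟨⟨h1, h2⟩, -⟩ := e
    have := eq_of_eqB hT hX (L := [b, b, b]) (by simp [hb]) (fun k hk => (h1 k hk).2) h2
    simp only [E_cons, E_nil, mul_one] at this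
    rw [pow_succ, pow_two, mul_assoc, this]
    exact E_mem X fun k hk => ⟨(h1 k hk).1, (h1 k hk).2⟩
  · intro a b hab hb
    have e := hall b (List.mem_range.2 hb)
    simp only [Bool.and_eq_true, List.all_eq_true, Nat.blt_eq] at e
    obtain ⟨-, h3⟩ := e
    obtain ⟨h4, h5⟩ := h3 a (List.mem_range.2 hab)
    set t := (cj.getD b []).getD a []
    have := eq_of_eqB hT hX (L := [a, b]) (L' := t ++ [b, a]) (by simp [hb, hab.trans hb]) (fun k hk => by
      rcases List.mem_append.1 hk with hk | hk
      · exact (h4 k hk).2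
      · simp only [List.mem_cons, List.not_mem_nil, or_false] at hk
        rcases hk with rfl | rfl
        exacts [hb, hab.trans hb]) h5
    simp only [E_cons, E_nil, mul_one, E_append] at this
    rw [this, show E X t * (X b * X a) * (X a)⁻¹ * (X b)⁻¹ = E X t by group]
    exact E_mem X fun k hk => ⟨(h4 k hk).1, (h4 k hk).2⟩

theorem node_sound (R : Rel X) (hfull : 3 ^ 13 ≤ Nat.card (span X 0)) :
    ∀ (N : Node) (i : ℕ) (u : List ℕ), (∀ k ∈ u, k < 13) → nodeB S T N i u = true →
      ∀ n ∈ span X i, (E X u * n) ^ 3 = 1 → ∃ q, act (E X u * n) q = q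
  | .fix q, i, u, hu, h => fun n hn _ => by
    rw [nodeB] at h
    simp only [Bool.and_eq_true, Nat.blt_eq] at h
    obtain ⟨⟨hq, hall⟩, hfix⟩ := h
    have hst : span X i ≤ (MulAction.stabilizer (Equiv.Perm Pt) (S.p q)).comap act := by
      rw [span, Subgroup.closure_le]
      rintro _ ⟨j, ⟨h1, h2⟩, rfl⟩
      have e := allRange_spec hall j h1 (by omega)
      show act (X j) (S.p q) = S.p q
      rw [(hX j h2 q hq).2, Nat.eq_of_beq_eq_true e]
    have hn' : act n (S.p q) = S.p q := hst hn
    exact ⟨S.p q, by rw [map_mul, Equiv.Perm.mul_apply, hn', (act_E hX u hu q hq).2, Nat.eq_of_beq_eq_true hfix]⟩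
  | .out j a tl, i, u, hu, h => fun n hn h3 => by
    exfalso
    rw [nodeB] at h
    simp only [Bool.and_eq_true, Nat.blt_eq, Bool.or_eq_true, List.all_eq_true] at h
    obtain ⟨⟨⟨⟨hji, ha⟩, htl⟩, he⟩, hj13⟩ := h
    have hrep : ∀ k ∈ List.replicate a j ++ tl, k < 13 := fun k hk => by
      rcases List.mem_append.1 hk with hk | hk
      · rw [(List.mem_replicate.1 hk).2]; exact hj13
      · exact (htl k hk).2
    have e := eq_of_eqB hT hX (fun k hk => by
      rcases List.mem_append.1 hk with hk | hk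
      · rcases List.mem_append.1 hk with hk | hk <;> exact hu k hk
      · exact hu k hk) hrep he
    simp only [E_append, E_replicate] at e
    have hu0 : E X u ∈ span X 0 := E_mem X fun k hk => ⟨Nat.zero_le _, hu k hk⟩
    set w := E X u
    have hw3 : w * w * w ∈ span X i := by
      have : w * w * w = ((w⁻¹ * w⁻¹) * n * (w⁻¹ * w⁻¹)⁻¹ * (w⁻¹ * n * w⁻¹⁻¹) * n)⁻¹ := by
        rw [eq_inv_iff_mul_eq_one, ← h3, pow_succ, pow_two]
        group
      rw [this]
      exact inv_mem (mul_mem (mul_mem (normal_span R _ _ (mul_mem (inv_mem hu0) (inv_mem hu0)) _ hn)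
        (normal_span R _ _ (inv_mem hu0) _ hn)) hn)
    rw [e] at hw3
    have hsub := span_mono (X := X) (show j + 1 ≤ i by omega) hw3
    have htm : E X tl ∈ span X (j + 1) := E_mem X fun k hk => ⟨(htl k hk).1, (htl k hk).2⟩
    have := mul_mem hsub (inv_mem htm)
    rw [mul_inv_cancel_right] at this
    exact not_mem_succ R hfull hj13 (ha.imp Nat.eq_of_beq_eq_true Nat.eq_of_beq_eq_true) this
  | .split n0 n1 n2, i, u, hu, h => fun n hn h3 => by
    rw [nodeB] at h
    simp only [Bool.and_eq_true, Nat.blt_eq] at h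
    obtain ⟨⟨⟨hi, h0⟩, h1⟩, h2⟩ := h
    obtain ⟨a, ha, hm⟩ := exists_digit R hi hn
    have e : ∀ L, (E X (u ++ L) * ((X i ^ a)⁻¹ * n)) = E X u * (E X L * ((X i ^ a)⁻¹ * n)) := fun L => by
      rw [E_append, mul_assoc]
    interval_cases a
    · have := node_sound R hfull n0 (i + 1) u hu h0 _ hm
      simp only [pow_zero, inv_one, one_mul] at this
      exact this h3
    · have := node_sound R hfull n1 (i + 1) (u ++ [i]) (by simpa [or_imp, forall_and] using ⟨hu, hi⟩) h1 _ hm
      rw [e, show E X [i] * ((X i ^ 1)⁻¹ * n) = n by simp [E]] at this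
      exact this h3
    · have := node_sound R hfull n2 (i + 1) (u ++ [i, i]) (by simpa [or_imp, forall_and] using ⟨hu, hi⟩) h2 _ hm
      rw [e, show E X [i, i] * ((X i ^ 2)⁻¹ * n) = n by simp [E, pow_two, mul_assoc]] at this
      exact this h3
  | .merge g e tl nd, i, u, hu, h => fun n hn h3 => by
    rw [nodeB] at h
    simp only [Bool.and_eq_true, Nat.blt_eq, Bool.or_eq_true, List.all_eq_true] at h
    obtain ⟨⟨⟨⟨⟨hi, he⟩, hg⟩, htl⟩, heq⟩, hnd⟩ := h
    have he' : e = 1 ∨ e = 2 := he.imp Nat.eq_of_beq_eq_true Nat.eq_of_beq_eq_true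
    have hid := eq_of_eqB hT hX (L := g ++ u) (L' := u ++ List.replicate e i ++ tl ++ g) (fun k hk => by
      rcases List.mem_append.1 hk with hk | hk
      exacts [hg k hk, hu k hk]) (fun k hk => by
      simp only [List.mem_append, List.mem_replicate] at hk
      rcases hk with ((hk | ⟨-, rfl⟩) | hk) | hk
      exacts [hu k hk, hi, (htl k hk).2, hg k hk]) heq
    simp only [E_append, E_replicate] at hid
    set w := E X u
    set γ := E X g
    set x := X i
    have hγ : γ ∈ span X 0 := E_mem X fun k hk => ⟨Nat.zero_le _, hg k hk⟩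
    have hx : x ∈ span X 0 := mem_span (Nat.zero_le _) hi
    have step : ∀ m : ℕ, ∀ r ∈ span X (i + 1), ∃ r' ∈ span X (i + 1),
        γ * (w * x ^ m * r) * γ⁻¹ = w * x ^ (e + m) * r' := by
      intro m r hr
      have c := central_pow R hi hγ m
      set c' := γ * x ^ m * γ⁻¹ * (x ^ m)⁻¹
      refine ⟨(x ^ m)⁻¹ * E X tl * c' * x ^ m * (γ * r * γ⁻¹), ?_, ?_⟩
      · refine mul_mem ?_ (normal_span R _ _ hγ _ hr)
        have ht : E X tl ∈ span X (i + 1) := E_mem X fun k hk => ⟨(htl k hk).1, (htl k hk).2⟩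
        have := normal_span R (i + 1) ((x ^ m)⁻¹) (inv_mem (pow_mem hx m)) _ (mul_mem ht c)
        rw [inv_inv] at this
        rwa [mul_assoc (x ^ m)⁻¹]
      · calc γ * (w * x ^ m * r) * γ⁻¹ = (γ * w) * γ⁻¹ * (γ * x ^ m * γ⁻¹) * (γ * r * γ⁻¹) := by group
          _ = w * x ^ e * E X tl * (c' * x ^ m) * (γ * r * γ⁻¹) := by
            rw [hid, show c' * x ^ m = γ * x ^ m * γ⁻¹ by simp [c']]
            group
          _ = _ := by rw [pow_add]; group
    have iter : ∀ k : ℕ, ∀ r ∈ span X (i + 1), ∃ r' ∈ span X (i + 1),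
        γ ^ k * (w * r) * (γ ^ k)⁻¹ = w * x ^ (k * e) * r' := by
      intro k
      induction k with
      | zero => exact fun r hr => ⟨r, hr, by simp⟩
      | succ k ih =>
        intro r hr
        obtain ⟨r1, hr1, e1⟩ := ih r hr
        obtain ⟨r2, hr2, e2⟩ := step (k * e) r1 hr1
        refine ⟨r2, hr2, ?_⟩
        rw [pow_succ', show γ * γ ^ k * (w * r) * (γ * γ ^ k)⁻¹ = γ * (γ ^ k * (w * r) * (γ ^ k)⁻¹) * γ⁻¹ by group,
          e1, e2]
        congr 3
        ring
    obtain ⟨a, ha, hm⟩ := exists_digit R hi hn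
    -- a power of the conjugator reaching the digit
    obtain ⟨k, d, hk⟩ : ∃ k d : ℕ, k * e = a + 3 * d := by
      rcases he' with rfl | rfl
      · exact ⟨a, 0, by simp⟩
      · exact ⟨2 * a, a, by ring⟩
    obtain ⟨r', hr', e'⟩ := iter k 1 (one_mem _)
    rw [mul_one] at e'
    set m := (γ ^ k)⁻¹ * ((r' : Gp)⁻¹ * ((x ^ (k * e))⁻¹ * n)) * γ ^ k
    have hxe : (x ^ (k * e))⁻¹ * n ∈ span X (i + 1) := by
      rw [hk, pow_add, pow_mul, mul_inv_rev, mul_assoc]
      exact mul_mem (inv_mem (pow_mem (R.pow i hi) d)) hm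
    have hm' : m ∈ span X (i + 1) := by
      have := normal_span R (i + 1) ((γ ^ k)⁻¹) (inv_mem (pow_mem hγ k)) _ (mul_mem (inv_mem hr') hxe)
      rwa [inv_inv] at this
    have hv : w * n = γ ^ k * (w * m) * (γ ^ k)⁻¹ := by
      calc w * n = (w * x ^ (k * e) * r') * (r'⁻¹ * ((x ^ (k * e))⁻¹ * n)) := by group
        _ = γ ^ k * w * (γ ^ k)⁻¹ * (r'⁻¹ * ((x ^ (k * e))⁻¹ * n)) := by rw [← e']
        _ = _ := by simp only [m]; group
    have h3' : (w * m) ^ 3 = 1 := by
      rw [hv, conj_pow] at h3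
      exact conj_eq_one_iff.1 h3
    obtain ⟨q, hq⟩ := node_sound R hfull nd (i + 1) u hu hnd m hm' h3'
    refine ⟨act (γ ^ k) q, ?_⟩
    rw [hv, map_mul, map_mul, map_inv, Equiv.Perm.mul_apply, Equiv.Perm.mul_apply,
      Equiv.Perm.inv_def, Equiv.symm_apply_apply, hq]

end Cfsg.Agent.OddLocal44.M23.Fi
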