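import Mathlib

/-!
Thirteen elements with power and conjugation relations of a 3-group: the series they give is central with
steps of order at most three.
-/

set_option autoImplicit false

namespace Cfsg.Agent.OddLocal44.M23.Fi.Pcgs

variable {G : Type*} [Group G] [Finite G]

/-- The span of the elements from place `i` on. -/
def span (X : ℕ → G) (i : ℕ) : Subgroup G := Subgroup.closure (X '' {j | i ≤ j ∧ j < 13})

/-- The relations. -/
structure Rel (X : ℕ → G) : Prop where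
  pow : ∀ b < 13, X b ^ 3 ∈ span X (b + 1)
  conj : ∀ a b, a < b → b < 13 → X a * X b * (X a)⁻¹ * (X b)⁻¹ ∈ span X (b + 1)

variable {X : ℕ → G}

theorem mem_span {i j : ℕ} (h1 : i ≤ j) (h2 : j < 13) : X j ∈ span X i :=
  Subgroup.subset_closure ⟨j, ⟨h1, h2⟩, rfl⟩

theorem span_mono {i j : ℕ} (h : i ≤ j) : span X j ≤ span X i :=
  Subgroup.closure_mono (Set.image_mono fun _ hk => ⟨le_trans h hk.1, hk.2⟩)

theorem span_top {i : ℕ} (h : 13 ≤ i) : span X i = ⊥ := by
  have : {j | i ≤ j ∧ j < 13} = (∅ : Set ℕ) := Set.eq_empty_of_forall_notMem fun j hj => by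
    have := hj.1; have := hj.2; omega
  simp [span, this]

theorem span_succ {i : ℕ} (h : i < 13) : span X i = Subgroup.closure {X i} ⊔ span X (i + 1) := by
  rw [span, span, ← Subgroup.closure_union]
  congr 1
  ext x
  constructor
  · rintro ⟨j, ⟨h1, h2⟩, rfl⟩
    rcases Nat.eq_or_lt_of_le h1 with rfl | h1
    · exact Or.inl rfl
    · exact Or.inr ⟨j, ⟨h1, h2⟩, rfl⟩
  · rintro (rfl | ⟨j, ⟨h1, h2⟩, rfl⟩)
    · exact ⟨i, ⟨le_rfl, h⟩, rfl⟩
    · exact ⟨j, ⟨by omega, h2⟩, rfl⟩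

/-- An element mapping a finite subgroup's generators into it normalises it both ways. -/
theorem conj_mem_of_gens {T : Set G} {g : G} (h : ∀ t ∈ T, g * t * g⁻¹ ∈ Subgroup.closure T) :
    ∀ x ∈ Subgroup.closure T, g * x * g⁻¹ ∈ Subgroup.closure T ∧ g⁻¹ * x * g ∈ Subgroup.closure T := by
  set K := Subgroup.closure T
  have hle : K.map (MulAut.conj g).toMonoidHom ≤ K := by
    rw [MonoidHom.map_closure, Subgroup.closure_le]
    rintro _ ⟨t, ht, rfl⟩
    exact h t ht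
  have heq : K.map (MulAut.conj g).toMonoidHom = K :=
    Subgroup.eq_of_le_of_card_ge hle
      (Subgroup.card_map_of_injective (f := (MulAut.conj g).toMonoidHom) (MulAut.conj g).injective).ge
  refine fun x hx => ⟨hle ⟨x, hx, rfl⟩, ?_⟩
  rw [← heq] at hx
  obtain ⟨y, hy, rfl⟩ := hx
  show g⁻¹ * (g * y * g⁻¹) * g ∈ K
  rwa [show g⁻¹ * (g * y * g⁻¹) * g = y by group]

variable (R : Rel X)

include R

theorem normal_span : ∀ i, ∀ g ∈ span X 0, ∀ x ∈ span X i, g * x * g⁻¹ ∈ span X i := by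
  suffices key : ∀ k i, i + k = 13 → ∀ a < 13, ∀ x ∈ span X i,
      X a * x * (X a)⁻¹ ∈ span X i ∧ (X a)⁻¹ * x * X a ∈ span X i by
    intro i g hg
    rcases Nat.lt_or_ge 13 i with hi | hi
    · intro x hx
      rw [span_top hi.le, Subgroup.mem_bot] at hx ⊢
      simp [hx]
    suffices ∀ x ∈ span X i, g * x * g⁻¹ ∈ span X i ∧ g⁻¹ * x * g ∈ span X i from fun x hx => (this x hx).1
    refine Subgroup.closure_induction
      (p := fun g _ => ∀ x ∈ span X i, g * x * g⁻¹ ∈ span X i ∧ g⁻¹ * x * g ∈ span X i) ?_ ?_ ?_ ?_ hg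
    · rintro _ ⟨a, ha, rfl⟩
      exact key (13 - i) i (by omega) a ha.2
    · exact fun x hx => ⟨by simpa using hx, by simpa using hx⟩
    · intro u v _ _ hu hv x hx
      refine ⟨?_, ?_⟩
      · rw [show u * v * x * (u * v)⁻¹ = u * (v * x * v⁻¹) * u⁻¹ by group]
        exact (hu _ (hv x hx).1).1
      · rw [show (u * v)⁻¹ * x * (u * v) = v⁻¹ * (u⁻¹ * x * u) * v by group]
        exact (hv _ (hu x hx).2).2
    · intro u _ hu x hx
      exact ⟨by simpa using (hu x hx).2, by simpa using (hu x hx).1⟩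
  intro k
  induction k with
  | zero =>
    intro i hi a _ x hx
    rw [span_top (by omega), Subgroup.mem_bot] at hx
    simp [hx]
  | succ k ih =>
    intro i hi a ha
    refine conj_mem_of_gens (T := X '' {j | i ≤ j ∧ j < 13}) (g := X a) ?_
    rintro _ ⟨j, ⟨h1, h2⟩, rfl⟩
    show _ ∈ span X i
    rcases Nat.eq_or_lt_of_le h1 with rfl | h1
    · rcases Nat.lt_trichotomy a i with h | rfl | h
      · have := span_mono (Nat.le_succ i) (R.conj a i h h2)
        have e : X a * X i * (X a)⁻¹ = X a * X i * (X a)⁻¹ * (X i)⁻¹ * X i := by group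
        rw [e]
        exact mul_mem this (mem_span le_rfl h2)
      · rw [mul_inv_cancel_right]; exact mem_span le_rfl h2
      · exact mul_mem (mul_mem (mem_span h.le ha) (mem_span le_rfl h2)) (inv_mem (mem_span h.le ha))
    · exact span_mono (Nat.le_succ i) ((ih (i + 1) (by omega) a ha _ (mem_span h1 h2)).1)

/-- The series is central. -/
theorem central {b : ℕ} (hb : b < 13) {g : G} (hg : g ∈ span X 0) :
    g * X b * g⁻¹ * (X b)⁻¹ ∈ span X (b + 1) := by
  refine Subgroup.closure_induction (p := fun g _ => g * X b * g⁻¹ * (X b)⁻¹ ∈ span X (b + 1)) ?_ ?_ ?_ ?_ hg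
  · rintro _ ⟨a, ⟨-, ha⟩, rfl⟩
    rcases Nat.lt_trichotomy a b with h | rfl | h
    · exact R.conj a b h hb
    · simp
    · have hm : X b * (X a)⁻¹ * (X b)⁻¹ ∈ span X (b + 1) :=
        normal_span R _ _ (mem_span (Nat.zero_le _) hb) _ (inv_mem (mem_span h ha))
      rw [show X a * X b * (X a)⁻¹ * (X b)⁻¹ = X a * (X b * (X a)⁻¹ * (X b)⁻¹) by group]
      exact mul_mem (mem_span h ha) hm
  · simp
  · intro u v hu _ e1 e2
    rw [show u * v * X b * (u * v)⁻¹ * (X b)⁻¹ =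
      (u * (v * X b * v⁻¹ * (X b)⁻¹) * u⁻¹) * (u * X b * u⁻¹ * (X b)⁻¹) by group]
    exact mul_mem (normal_span R _ u hu _ e2) e1
  · intro u hu e
    rw [show u⁻¹ * X b * u⁻¹⁻¹ * (X b)⁻¹ = u⁻¹ * (u * X b * u⁻¹ * (X b)⁻¹)⁻¹ * u⁻¹⁻¹ by group]
    exact normal_span R _ _ (inv_mem hu) _ (inv_mem e)

/-- The conjugate of a power in the quotient. -/
theorem central_pow {b : ℕ} (hb : b < 13) {g : G} (hg : g ∈ span X 0) :
    ∀ m : ℕ, g * X b ^ m * g⁻¹ * (X b ^ m)⁻¹ ∈ span X (b + 1)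
  | 0 => by simp
  | m + 1 => by
    rw [pow_succ, show g * (X b ^ m * X b) * g⁻¹ * (X b ^ m * X b)⁻¹ =
      (g * X b ^ m * g⁻¹ * (X b ^ m)⁻¹) * ((X b ^ m) * (g * X b * g⁻¹ * (X b)⁻¹) * (X b ^ m)⁻¹) by group]
    exact mul_mem (central_pow hb hg m)
      (normal_span R _ _ (pow_mem (mem_span (Nat.zero_le _) hb) m) _ (central R hb hg))

theorem exists_digit {b : ℕ} (hb : b < 13) {v : G} (hv : v ∈ span X b) :
    ∃ a < 3, (X b ^ a)⁻¹ * v ∈ span X (b + 1) := by
  suffices h : ∃ a : ℕ, (X b ^ a)⁻¹ * v ∈ span X (b + 1) by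
    obtain ⟨a, ha⟩ := h
    refine ⟨a % 3, Nat.mod_lt _ (by norm_num), ?_⟩
    rw [show (X b ^ (a % 3))⁻¹ * v = (X b ^ 3) ^ (a / 3) * ((X b ^ a)⁻¹ * v) by
      conv_rhs => rw [← pow_mul, ← mul_assoc]
      congr 1
      rw [eq_mul_inv_iff_mul_eq, inv_mul_eq_iff_eq_mul, ← pow_add, Nat.mod_add_div]]
    exact mul_mem (pow_mem (R.pow b hb) _) ha
  refine Subgroup.closure_induction (p := fun v _ => ∃ a : ℕ, (X b ^ a)⁻¹ * v ∈ span X (b + 1)) ?_ ?_ ?_ ?_ hv
  · rintro _ ⟨j, ⟨h1, h2⟩, rfl⟩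
    rcases Nat.eq_or_lt_of_le h1 with rfl | h1
    · exact ⟨1, by simp⟩
    · exact ⟨0, by simpa using mem_span h1 h2⟩
  · exact ⟨0, by simp⟩
  · rintro u w hu _ ⟨a, ha⟩ ⟨c, hc⟩
    refine ⟨a + c, ?_⟩
    rw [pow_add, show (X b ^ a * X b ^ c)⁻¹ * (u * w) =
      ((X b ^ c)⁻¹ * ((X b ^ a)⁻¹ * u) * (X b ^ c)⁻¹⁻¹) * ((X b ^ c)⁻¹ * w) by group]
    exact mul_mem (normal_span R _ _ (inv_mem (pow_mem (mem_span (Nat.zero_le _) hb) c)) _ ha) hc
  · rintro u hu ⟨a, ha⟩
    refine ⟨2 * a, ?_⟩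
    have hp : X b ^ a ∈ span X 0 := pow_mem (mem_span (Nat.zero_le _) hb) a
    rw [show (X b ^ (2 * a))⁻¹ * u⁻¹ = (X b ^ (3 * a))⁻¹ *
      ((X b ^ a) * ((X b ^ a)⁻¹ * u)⁻¹ * (X b ^ a)⁻¹) by
        rw [show 3 * a = a + 2 * a by ring, pow_add]
        rw [show X b ^ a * X b ^ (2 * a) = X b ^ (2 * a) * X b ^ a by rw [← pow_add, ← pow_add, add_comm]]
        group]
    refine mul_mem (inv_mem ?_) (normal_span R _ _ hp _ (inv_mem ha))
    rw [pow_mul]
    exact pow_mem (R.pow b hb) _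

theorem card_span_le {b : ℕ} (hb : b < 13) : Nat.card (span X b) ≤ 3 * Nat.card (span X (b + 1)) := by
  classical
  have hx : X b ∈ span X b := mem_span le_rfl hb
  set f : Fin 3 × span X (b + 1) → span X b := fun p =>
    ⟨X b ^ (p.1 : ℕ) * p.2, mul_mem (pow_mem hx _) (span_mono (Nat.le_succ b) p.2.2)⟩
  have hf : Function.Surjective f := by
    rintro ⟨v, hv⟩
    obtain ⟨a, ha, hm⟩ := exists_digit R hb hv
    exact ⟨(⟨a, ha⟩, ⟨_, hm⟩), Subtype.ext (by simp [f])⟩
  have := Nat.card_le_card_of_surjective f hf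
  rwa [Nat.card_prod, Nat.card_fin] at this

theorem card_span_le_pow : ∀ k i, i + k = 13 → Nat.card (span X i) ≤ 3 ^ k
  | 0, i, hi => by rw [span_top (by omega), Subgroup.card_bot, pow_zero]
  | k + 1, i, hi => by
    refine (card_span_le R (by omega)).trans ?_
    rw [pow_succ, mul_comm (3 ^ k) 3]
    exact Nat.mul_le_mul_left _ (card_span_le_pow k (i + 1) (by omega))

theorem card_eq_of_full (h : 3 ^ 13 ≤ Nat.card (span X 0)) :
    ∀ i k, i + k = 13 → Nat.card (span X i) = 3 ^ k := by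
  intro i
  induction i with
  | zero => intro k hk; obtain rfl : k = 13 := by omega
            exact le_antisymm (card_span_le_pow R 13 0 rfl) h
  | succ i ih =>
    intro k hk
    refine le_antisymm (card_span_le_pow R k (i + 1) hk) ?_
    have h1 := ih (k + 1) (by omega)
    have h2 := card_span_le R (b := i) (by omega)
    rw [h1, pow_succ] at h2
    omega

theorem not_mem_succ (h : 3 ^ 13 ≤ Nat.card (span X 0)) {b : ℕ} (hb : b < 13) {a : ℕ} (ha : a = 1 ∨ a = 2) :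
    X b ^ a ∉ span X (b + 1) := by
  intro hm
  have h1 : X b ∈ span X (b + 1) := by
    rcases ha with rfl | rfl
    · simpa using hm
    · have := mul_mem (R.pow b hb) (inv_mem hm)
      rwa [show X b ^ 3 * (X b ^ 2)⁻¹ = X b by group] at this
  have e : span X b = span X (b + 1) := by
    refine le_antisymm ?_ (span_mono (Nat.le_succ b))
    rw [span_succ hb, sup_le_iff, Subgroup.closure_le]
    exact ⟨by simpa using h1, le_rfl⟩
  have h2 := card_eq_of_full R h b (13 - b) (by omega)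
  rw [e, card_eq_of_full R h (b + 1) (12 - b) (by omega)] at h2
  have := Nat.pow_right_injective (le_refl 2 |>.trans (by norm_num : 2 ≤ 3)) h2
  omega

end Cfsg.Agent.OddLocal44.M23.Fi.Pcgs
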