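import Cfsg.Agent.OddLocal44.M23.Fi.SylData

set_option autoImplicit false
set_option maxRecDepth 100000

namespace Cfsg.Agent.OddLocal44.M23.Fi.Syl

open Cfsg.Agent.CosetEnum

theorem gen0_0 : allRange (fun s => Nat.blt (sys.t 0 s) sys.size &&
    Nat.beq (Fi23.Rep.tbl.run genW0.reverse (look sys.sv s)) (look sys.sv (sys.t 0 s))) 0 1620 = true := by
  decide +kernel

end Cfsg.Agent.OddLocal44.M23.Fi.Syl
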