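import Cfsg.Agent.OddLocal44.M23.Fi.SylCheck
import Cfsg.Agent.OddLocal44.M23.Fi.SylGen00
import Cfsg.Agent.OddLocal44.M23.Fi.SylGen01
import Cfsg.Agent.OddLocal44.M23.Fi.SylGen10
import Cfsg.Agent.OddLocal44.M23.Fi.SylGen11
import Cfsg.Agent.OddLocal44.M23.Fi.SylGen20
import Cfsg.Agent.OddLocal44.M23.Fi.SylGen21

/-!
A Sylow 3-subgroup of Fi23; every element whose cube is trivial fixes one of the 31671 points.
-/

set_option autoImplicit false
set_option maxRecDepth 100000

namespace Cfsg.Agent.OddLocal44.M23.Fi.Syl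

open Cfsg.Agent.CosetEnum Pcgs Sys
open Cfsg.Agent.CosetEnum.Fi23 (pres)

/-- The defining recursion. -/
noncomputable def build : List (List ℕ) → (ℕ → Gp) → ℕ → (ℕ → Gp)
  | [], f, _ => f
  | d :: r, f, k => build r (Function.update f k (E f d)) (k + 1)

/-- The thirteen elements. -/
noncomputable def X : ℕ → Gp :=
  build defs (fun k => ev (if k = 0 then genW0 else if k = 1 then genW1 else genW2)) 3

theorem gen_acts {k : ℕ} {W : List ℕ} (hW : ∀ l ∈ W, l < 10)
    (c0 : allRange (fun s => Nat.blt (sys.t k s) sys.size &&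
      Nat.beq (Fi23.Rep.tbl.run W.reverse (look sys.sv s)) (look sys.sv (sys.t k s))) 0 1620 = true)
    (c1 : allRange (fun s => Nat.blt (sys.t k s) sys.size &&
      Nat.beq (Fi23.Rep.tbl.run W.reverse (look sys.sv s)) (look sys.sv (sys.t k s))) 1620 1620 = true) :
    sys.Acts (ev W) k := by
  obtain ⟨hlt, -⟩ := sys.p_injOn pts_check
  intro s hs
  have hsize : sys.size = 3240 := rfl
  have e : (Nat.blt (sys.t k s) sys.size &&
      Nat.beq (Fi23.Rep.tbl.run W.reverse (look sys.sv s)) (look sys.sv (sys.t k s))) = true := by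
    rcases Nat.lt_or_ge s 1620 with h | h
    · exact allRange_spec c0 s (Nat.zero_le _) (by omega)
    · exact allRange_spec c1 s h (by omega)
  rw [Bool.and_eq_true, Nat.blt_eq] at e
  refine ⟨e.1, Fin.ext ?_⟩
  rw [act_ev hW, Sys.p, Sys.p, pt_val (hlt s hs), pt_val (hlt _ e.1)]
  exact Nat.eq_of_beq_eq_true e.2

theorem build_acts : ∀ (ds : List (List ℕ)) (f : ℕ → Gp) (k : ℕ),
    (∀ j < ds.length, sys.okDef (k + j) (ds.getD j []) = true) → (∀ j < k, sys.Acts (f j) j) →
    ∀ j < k + ds.length, sys.Acts (build ds f k j) j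
  | [], f, k, _, hf, j, hj => hf j (by simpa using hj)
  | d :: r, f, k, hd, hf, j, hj => by
    refine build_acts r _ (k + 1) (fun i hi => ?_) (fun i hi => ?_) j (by simp at hj; omega)
    · have := hd (i + 1) (by simp; omega)
      rwa [List.getD_cons_succ, show k + (i + 1) = k + 1 + i by ring] at this
    · rcases Nat.lt_succ_iff_lt_or_eq.1 hi with h | rfl
      · rw [Function.update_of_ne h.ne]; exact hf i h
      · rw [Function.update_self]
        exact acts_of_def hf (by simpa using hd 0 (by simp))

theorem acts : ∀ k < 13, sys.Acts (X k) k := by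
  have hw := words_check.1
  simp only [List.all_eq_true, Nat.blt_eq, List.mem_append] at hw
  have hlen : defs.length = 10 := rfl
  intro k hk
  refine build_acts defs _ 3 (fun j hj => ?_) (fun j hj => ?_) k (by omega)
  · rw [Nat.add_comm]
    exact List.all_eq_true.1 defs_check j (List.mem_range.2 (hlen ▸ hj))
  · interval_cases j
    · exact gen_acts (fun l hl => hw l (Or.inl (Or.inl hl))) gen0_0 gen0_1
    · exact gen_acts (fun l hl => hw l (Or.inl (Or.inr hl))) gen1_0 gen1_1
    · exact gen_acts (fun l hl => hw l (Or.inr hl)) gen2_0 gen2_1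

theorem val_sq' (l : ℕ) (hl : l < 10) : pres.val l * pres.val l = 1 := by
  interval_cases l <;> exact Fi23.val_sq _ (by decide +kernel)

theorem braid_conj {x y : ℕ} (h : [x, y, x, y, x, y] ∈ pres.relWords) (hx : x < 10) (hy : y < 10) :
    ev [x, y] * pres.val x * (ev [x, y])⁻¹ = pres.val y := by
  have e := pres.rel_val _ h
  simp only [evalWord] at e
  rw [show ev [x, y] = pres.val x * pres.val y from by simp [ev, evalWord]]
  exact Fi23.braid (val_sq' x hx) (val_sq' y hy) e

theorem letter_conj : ∀ l < 10, ev (letterG.getD l []) * pres.val 1 * (ev (letterG.getD l []))⁻¹ = pres.val l := by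
  have step : ∀ {x y : ℕ} {G : List ℕ}, [x, y, x, y, x, y] ∈ pres.relWords → x < 10 → y < 10 →
      ev G * pres.val 1 * (ev G)⁻¹ = pres.val x →
      ev ([x, y] ++ G) * pres.val 1 * (ev ([x, y] ++ G))⁻¹ = pres.val y := by
    intro x y G h hx hy e
    rw [ev_append, show ev [x, y] * ev G * pres.val 1 * (ev [x, y] * ev G)⁻¹ =
      ev [x, y] * (ev G * pres.val 1 * (ev G)⁻¹) * (ev [x, y])⁻¹ by group, e]
    exact braid_conj h hx hy
  have e1 : ev [] * pres.val 1 * (ev [])⁻¹ = pres.val 1 := by simp [ev, evalWord]
  have e0 := step (y := 0) (by decide +kernel) (by norm_num) (by norm_num) e1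
  have e2 := step (y := 2) (by decide +kernel) (by norm_num) (by norm_num) e1
  have e3 := step (y := 3) (by decide +kernel) (by norm_num) (by norm_num) e2
  have e4 := step (y := 4) (by decide +kernel) (by norm_num) (by norm_num) e3
  have e5 := step (y := 5) (by decide +kernel) (by norm_num) (by norm_num) e4
  have e6 := step (y := 6) (by decide +kernel) (by norm_num) (by norm_num) e5
  have e7 := step (y := 7) (by decide +kernel) (by norm_num) (by norm_num) e6
  have e8 := step (y := 8) (by decide +kernel) (by norm_num) (by norm_num) e3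
  have e9 := step (y := 9) (by decide +kernel) (by norm_num) (by norm_num) e8
  intro l hl
  interval_cases l
  exacts [e0, e1, e2, e3, e4, e5, e6, e7, e8, e9]

theorem tests_ok : sys.Tests tests := by
  obtain ⟨hlt, -⟩ := sys.p_injOn pts_check
  have hw := words_check.2
  simp only [Bool.and_eq_true, List.all_eq_true, Nat.blt_eq] at hw
  have hts : ∀ s ∈ tests, s < sys.size := fun s hs => by
    obtain ⟨j, hj, rfl⟩ := List.getElem_of_mem hs
    have := List.all_eq_true.1 tests_check j (List.mem_range.2 hj)
    rw [Bool.and_eq_true, Nat.blt_eq, List.getD_eq_getElem _ _ hj] at this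
    exact this.1
  refine ⟨hts, ?_⟩
  set M := Subgroup.closure (tr '' {q | ∃ s ∈ tests, sys.p s = q})
  have hpath : ∀ j < tests.length, act (ev (testPath.getD j [])) pb = sys.p (tests.getD j 0) ∧
      ∀ l ∈ testPath.getD j [], l < 10 := by
    intro j hj
    have := List.all_eq_true.1 tests_check j (List.mem_range.2 hj)
    rw [Bool.and_eq_true, Nat.blt_eq] at this
    have hp : ∀ l ∈ testPath.getD j [], l < 10 := fun l hl => by
      rcases Nat.lt_or_ge j testPath.length with h | h
      · exact hw.1 _ (by rw [List.getD_eq_getElem _ _ h]; exact List.getElem_mem h) l hl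
      · rw [List.getD_eq_default _ _ h] at hl; exact absurd hl List.not_mem_nil
    refine ⟨Fin.ext ?_, hp⟩
    rw [act_ev hp, Sys.p, pt_val (hlt _ this.1)]
    exact Nat.eq_of_beq_eq_true this.2
  have key : ∀ (L : List (ℕ × ℕ × ℕ)) (seen : ℕ), reachB L seen = true →
      (∀ q, seen.testBit q = true → q < 31671 ∧ tr (pt q) ∈ M) →
      ∀ q, (L.foldl (fun m e => m ||| 1 <<< e.2.2) seen).testBit q = true → q < 31671 ∧ tr (pt q) ∈ M := by
    intro L
    induction L with
    | nil => exact fun _ _ h => h
    | cons e L ih =>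
      obtain ⟨j, o, w⟩ := e
      intro seen hr hseen
      rw [reachB] at hr
      simp only [Bool.and_eq_true, Nat.blt_eq] at hr
      obtain ⟨⟨⟨⟨⟨hj, ho⟩, hwl⟩, hob⟩, hrun⟩, hrest⟩ := hr
      refine ih _ hrest fun q hq => ?_
      rw [Nat.testBit_lor, Bool.or_eq_true] at hq
      rcases hq with hq | hq
      · exact hseen q hq
      · have hqw : q = w := by
          rw [Nat.testBit_shiftLeft, Bool.and_eq_true, decide_eq_true_eq] at hq
          rcases Nat.eq_or_lt_of_le hq.1 with e | e
          · exact e.symm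
          · obtain ⟨m, hm⟩ := Nat.exists_eq_add_of_lt e
            have := hq.2
            rw [hm, show w + m + 1 - w = m + 1 by omega, Nat.testBit_succ] at this
            simp at this
        subst hqw
        refine ⟨hwl, ?_⟩
        obtain ⟨hact, hp⟩ := hpath j hj
        set P := testPath.getD j []
        have ht : tr (sys.p (tests.getD j 0)) = ev (P ++ 1 :: P.reverse) := by
          rw [← hact, tr_act, ← ev_reverse, mul_assoc, ev_append]
          rfl
        have hmem : tr (sys.p (tests.getD j 0)) ∈ M := Subgroup.subset_closure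
          ⟨_, ⟨_, by rw [List.getD_eq_getElem _ _ hj]; exact List.getElem_mem hj, rfl⟩, rfl⟩
        have hq' : pt q = act (tr (sys.p (tests.getD j 0))) (pt o) := by
          apply Fin.ext
          rw [ht, act_ev (by
            intro l hl
            rcases List.mem_append.1 hl with hl | hl
            · exact hp l hl
            · rcases List.mem_cons.1 hl with rfl | hl
              · norm_num
              · exact hp l (List.mem_reverse.1 hl)), pt_val hwl, pt_val ho,
            show (P ++ 1 :: P.reverse).reverse = P ++ 1 :: P.reverse by simp]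
          exact (Nat.eq_of_beq_eq_true hrun).symm
        rw [hq', ← tr_conj]
        exact mul_mem (mul_mem hmem (hseen o hob).2) (inv_mem hmem)
  have h0 : ∀ (L : List ℕ) (seen : ℕ), (∀ s ∈ L, s ∈ tests) → (∀ q, seen.testBit q = true → q < 31671 ∧ tr (pt q) ∈ M) →
      ∀ q, (L.foldl (fun m s => m ||| 1 <<< look sys.sv s) seen).testBit q = true → q < 31671 ∧ tr (pt q) ∈ M := by
    intro L
    induction L with
    | nil => exact fun _ _ h => h
    | cons s L ih =>
      intro seen hL hseen
      refine ih _ (fun t ht => hL t (List.mem_cons_of_mem _ ht)) fun q hq => ?_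
      rw [Nat.testBit_lor, Bool.or_eq_true] at hq
      rcases hq with hq | hq
      · exact hseen q hq
      · have hqw : q = look sys.sv s := by
          rw [Nat.testBit_shiftLeft, Bool.and_eq_true, decide_eq_true_eq] at hq
          rcases Nat.eq_or_lt_of_le hq.1 with e | e
          · exact e.symm
          · obtain ⟨m, hm⟩ := Nat.exists_eq_add_of_lt e
            have := hq.2
            rw [hm, show look sys.sv s + m + 1 - look sys.sv s = m + 1 by omega, Nat.testBit_succ] at this
            simp at this
        subst hqw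
        exact ⟨hlt _ (hts s (hL s List.mem_cons_self)),
          Subgroup.subset_closure ⟨_, ⟨s, hL s List.mem_cons_self, rfl⟩, rfl⟩⟩
  have hall := key reach _ reach_check (h0 tests 0 (fun _ h => h) (fun q hq => by simp at hq))
  rw [eq_top_iff, ← pres.closure_val, Subgroup.closure_le]
  rintro _ ⟨l, hl, rfl⟩
  have hl' : l < 10 := hl
  have hg : ∀ u ∈ letterG.getD l [], u < 10 := hw.2 _ (by
    rw [List.getD_eq_getElem _ _ (show l < letterG.length from hl')]; exact List.getElem_mem _)
  obtain ⟨hlt', hmem⟩ := hall _ (List.all_eq_true.1 letters_check l (List.mem_range.2 hl'))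
  have e : pt (Fi23.Rep.tbl.run (letterG.getD l []).reverse 8004) = act (ev (letterG.getD l [])) pb := by
    apply Fin.ext
    rw [pt_val hlt', act_ev hg]
    rfl
  rw [e, tr_act, letter_conj l hl'] at hmem
  exact hmem

theorem rel : Rel X := rel_sound acts tests_ok rel_check

theorem card_ge : 3 ^ 13 ≤ Nat.card (span X 0) := by
  have h := levels_sound acts pts_check levels [] (by simp) levels_check.1
  rw [Nat.eq_of_beq_eq_true levels_check.2] at h
  refine (show (3 : ℕ) ^ 13 = 1594323 by norm_num) ▸ h.trans ?_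
  exact Nat.card_le_card_of_injective (fun g => (⟨g.1, g.2.1⟩ : span X 0)) fun g k e =>
    Subtype.ext (congrArg (fun x : span X 0 => (x : Gp)) e)

/-- The Sylow 3-subgroup. -/
theorem sylow_exists : ∃ P : Sylow 3 Gp, (P : Subgroup Gp) = span X 0 := by
  haveI := Fact.mk Nat.prime_three
  refine ⟨Sylow.ofCard (span X 0) ?_, rfl⟩
  rw [Pcgs.card_eq_of_full rel card_ge 0 13 rfl, Fi23.card_eq]
  have : (4089470473293004800 : ℕ).factorization 3 = 13 := by
    rw [show (4089470473293004800 : ℕ) = 3 ^ 13 * 2565020057600 by norm_num,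
      Nat.factorization_mul (by norm_num) (by norm_num), Nat.Prime.factorization_pow Nat.prime_three,
      Finsupp.add_apply, Finsupp.single_eq_same,
      Nat.factorization_eq_zero_of_not_dvd (by norm_num : ¬ 3 ∣ 2565020057600)]
  rw [this]

/-- An element whose cube is trivial fixes a point. -/
theorem exists_fixed {v : Gp} (hv : v ^ 3 = 1) : ∃ q, act v q = q := by
  haveI := Fact.mk Nat.prime_three
  obtain ⟨P, hP⟩ := sylow_exists
  have hp : IsPGroup 3 (Subgroup.zpowers v) := by
    intro ⟨w, hw⟩
    obtain ⟨k, rfl⟩ := Subgroup.mem_zpowers_iff.1 hw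
    refine ⟨1, Subtype.ext ?_⟩
    show (v ^ k) ^ (3 ^ 1) = 1
    rw [pow_one, ← zpow_natCast, ← zpow_mul, mul_comm, zpow_mul, zpow_natCast, hv, one_zpow]
  obtain ⟨Q, hQ⟩ := hp.exists_le_sylow
  obtain ⟨t, ht⟩ := MulAction.exists_smul_eq Gp Q P
  have hmem : t * v * t⁻¹ ∈ span X 0 := by
    rw [← hP, ← ht, Sylow.coe_subgroup_smul, Subgroup.mem_pointwise_smul_iff_inv_smul_mem]
    refine hQ ?_
    simp [MulAut.smul_def, mul_assoc, Subgroup.mem_zpowers]
  obtain ⟨q, hq⟩ := node_sound acts tests_ok rel card_ge tree 0 [] (by simp) tree_check _ hmem (by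
    rw [E_nil, one_mul, conj_pow, hv]; group)
  rw [E_nil, one_mul, map_mul, map_mul, map_inv, Equiv.Perm.mul_apply, Equiv.Perm.mul_apply] at hq
  exact ⟨(act t)⁻¹ q, Equiv.Perm.eq_inv_iff_eq.2 hq⟩

end Cfsg.Agent.OddLocal44.M23.Fi.Syl
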