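import Cfsg.Agent.OddLocal44.M23.Fi.SylData

set_option autoImplicit false
set_option maxRecDepth 100000

namespace Cfsg.Agent.OddLocal44.M23.Fi.Syl

open Cfsg.Agent.CosetEnum

/-- The letters as conjugates of the second: the element and the tree of Coxeter edges. -/
def letterG : List (List ℕ) := [[1, 0], [], [1, 2], [2, 3, 1, 2], [3, 4, 2, 3, 1, 2], [4, 5, 3, 4, 2, 3, 1, 2],
  [5, 6, 4, 5, 3, 4, 2, 3, 1, 2], [6, 7, 5, 6, 4, 5, 3, 4, 2, 3, 1, 2], [3, 8, 2, 3, 1, 2],
  [8, 9, 3, 8, 2, 3, 1, 2]]

/-- The steps of reaching are right. -/
noncomputable def reachB : List (ℕ × ℕ × ℕ) → ℕ → Bool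
  | [], _ => true
  | (j, o, w) :: r, seen => Nat.blt j tests.length && Nat.blt o 31671 && Nat.blt w 31671 && seen.testBit o &&
      Nat.beq (Fi23.Rep.tbl.run (testPath.getD j [] ++ 1 :: (testPath.getD j []).reverse) o) w &&
      reachB r (seen ||| 1 <<< w)

/-- The points seen at the start and during the steps. -/
noncomputable def seenAll : ℕ :=
  reach.foldl (fun m e => m ||| 1 <<< e.2.2) (tests.foldl (fun m s => m ||| 1 <<< look sys.sv s) 0)

theorem pts_check : sys.okPts = true := by decide +kernel

theorem words_check : ((genW0 ++ genW1 ++ genW2).all fun l => Nat.blt l 10) = true ∧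
    ((testPath.all fun p => p.all fun l => Nat.blt l 10) && (letterG.all fun p => p.all fun l => Nat.blt l 10)) = true := by
  decide +kernel

theorem tests_check : ((List.range tests.length).all fun j => Nat.blt (tests.getD j 0) sys.size &&
    Nat.beq (Fi23.Rep.tbl.run (testPath.getD j []).reverse 8004) (look sys.sv (tests.getD j 0))) = true := by
  decide +kernel

theorem reach_check : reachB reach (tests.foldl (fun m s => m ||| 1 <<< look sys.sv s) 0) = true := by decide +kernel

theorem letters_check : ((List.range 10).all fun l =>
    seenAll.testBit (Fi23.Rep.tbl.run (letterG.getD l []).reverse 8004)) = true := by decide +kernel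

theorem defs_check : ((List.range 10).all fun k => sys.okDef (k + 3) (defs.getD k [])) = true := by decide +kernel

theorem rel_check : relB sys tests pw cj = true := by decide +kernel

theorem levels_check : levelsB sys levels [] = true ∧ Nat.beq (levelsSize levels) 1594323 = true := by decide +kernel

theorem tree_check : nodeB sys tests tree 0 [] = true := by decide +kernel

end Cfsg.Agent.OddLocal44.M23.Fi.Syl
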