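import Cfsg.Agent.OddLocal44.M23.Fi.Base
import Cfsg.Agent.OddLocal44.M23.Fi.Pcgs
import Cfsg.Agent.Lib.CosetEnum.Pack

/-!
Small tables for the action of thirteen elements on a closed set of points, and the checks run on them.
-/

set_option autoImplicit false

namespace Cfsg.Agent.OddLocal44.M23.Fi

open Cfsg.Agent.CosetEnum

/-- An entry of width sixteen. -/
noncomputable def look (v s : ℕ) : ℕ :=
  forceNat s fun s => Nat.land (Nat.shiftRight v (Nat.mul (nat_lit 16) s)) (nat_lit 65535)

/-- The point of a number. -/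
noncomputable def pt (q : ℕ) : Pt := if h : q < 31671 then ⟨q, h⟩ else pb

theorem pt_val {q : ℕ} (h : q < 31671) : (pt q : ℕ) = q := by
  rw [pt, dif_pos h]

/-- A closed set of points with thirteen tables. -/
structure Sys where
  size : ℕ
  sv : ℕ
  tx : List ℕ

namespace Sys

variable (S : Sys)

/-- A table entry. -/
noncomputable def t (k s : ℕ) : ℕ := look (S.tx.getD k 0) s

/-- The point of an index. -/
noncomputable def p (s : ℕ) : Pt := pt (look S.sv s)

/-- A word on the tables. -/
noncomputable def fold (L : List ℕ) (s : ℕ) : ℕ := L.foldr (fun k r => S.t k r) s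

/-- The points are numbered increasingly. -/
noncomputable def okPts : Bool :=
  Nat.blt (look S.sv (S.size - 1)) 31671 && allRange (fun s => Nat.blt (look S.sv s) (look S.sv (s + 1))) 0 (S.size - 1)

/-- Two words agree on the test points. -/
noncomputable def eqB (T : List ℕ) (L L' : List ℕ) : Bool := T.all fun s => Nat.beq (S.fold L s) (S.fold L' s)

/-- An element is given by a table. -/
def Acts (x : Gp) (k : ℕ) : Prop := ∀ s < S.size, S.t k s < S.size ∧ act x (S.p s) = S.p (S.t k s)

/-- A defining list is right on all points. -/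
noncomputable def okDef (k : ℕ) (d : List ℕ) : Bool :=
  d.all (fun j => Nat.blt j k) && allRange (fun s => Nat.beq (S.fold d s) (S.t k s)) 0 S.size

theorem p_injOn (h : S.okPts = true) :
    (∀ s < S.size, look S.sv s < 31671) ∧ ∀ s < S.size, ∀ r < S.size, S.p s = S.p r → s = r := by
  rw [okPts, Bool.and_eq_true] at h
  obtain ⟨hlast, hstep⟩ := h
  have hmono : ∀ s r, s < r → r < S.size → look S.sv s < look S.sv r := by
    intro s r hsr hr
    induction r with
    | zero => omega
    | succ r ih =>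
      have h1 : look S.sv r < look S.sv (r + 1) :=
        Nat.le_of_ble_eq_true (allRange_spec hstep r (Nat.zero_le _) (by omega))
      rcases Nat.eq_or_lt_of_le (Nat.lt_succ_iff.1 hsr) with rfl | h2
      · exact h1
      · exact (ih h2 (by omega)).trans h1
  have hlt : ∀ s < S.size, look S.sv s < 31671 := by
    intro s hs
    rcases Nat.eq_or_lt_of_le (Nat.le_sub_one_of_lt hs) with e | e
    · rw [e]; exact Nat.le_of_ble_eq_true hlast
    · exact (hmono _ _ e (by omega)).trans_le (Nat.le_of_lt (Nat.le_of_ble_eq_true hlast))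
  refine ⟨hlt, fun s hs r hr e => ?_⟩
  have e' : look S.sv s = look S.sv r := by
    have := congrArg Fin.val e
    rwa [p, p, pt_val (hlt s hs), pt_val (hlt r hr)] at this
  rcases Nat.lt_trichotomy s r with h | h | h
  · exact absurd (hmono s r h hr) (by omega)
  · exact h
  · exact absurd (hmono r s h hs) (by omega)

variable {S}

/-- The product of a word. -/
def E (X : ℕ → Gp) (L : List ℕ) : Gp := (L.map X).prod

theorem E_append (X : ℕ → Gp) (u v : List ℕ) : E X (u ++ v) = E X u * E X v := by
  simp [E, List.map_append, List.prod_append]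

theorem E_nil (X : ℕ → Gp) : E X [] = 1 := rfl

theorem E_cons (X : ℕ → Gp) (k : ℕ) (L : List ℕ) : E X (k :: L) = X k * E X L := rfl

theorem E_replicate (X : ℕ → Gp) (a k : ℕ) : E X (List.replicate a k) = X k ^ a := by
  simp [E, List.map_replicate, List.prod_replicate]

variable {X : ℕ → Gp} {n : ℕ}

theorem act_E (hX : ∀ k < n, S.Acts (X k) k) : ∀ (L : List ℕ), (∀ k ∈ L, k < n) → ∀ s < S.size,
    S.fold L s < S.size ∧ act (E X L) (S.p s) = S.p (S.fold L s)
  | [], _, s, hs => ⟨hs, by rw [E_nil, map_one]; rfl⟩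
  | k :: L, hL, s, hs => by
    obtain ⟨h1, h2⟩ := act_E hX L (fun j hj => hL j (List.mem_cons_of_mem _ hj)) s hs
    obtain ⟨h3, h4⟩ := hX k (hL k List.mem_cons_self) _ h1
    exact ⟨h3, by rw [E_cons, map_mul, Equiv.Perm.mul_apply, h2, h4]; rfl⟩

/-- Test points whose transpositions generate. -/
def Tests (S : Sys) (T : List ℕ) : Prop :=
  (∀ s ∈ T, s < S.size) ∧ Subgroup.closure (tr '' {q | ∃ s ∈ T, S.p s = q}) = ⊤

theorem eq_of_eqB {T : List ℕ} (hT : S.Tests T) (hX : ∀ k < n, S.Acts (X k) k) {L L' : List ℕ}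
    (hL : ∀ k ∈ L, k < n) (hL' : ∀ k ∈ L', k < n) (he : S.eqB T L L' = true) : E X L = E X L' := by
  refine eq_of_gen hT.2 ?_
  rintro _ ⟨s, hs, rfl⟩
  rw [(act_E hX L hL s (hT.1 s hs)).2, (act_E hX L' hL' s (hT.1 s hs)).2,
    Nat.eq_of_beq_eq_true (List.all_eq_true.1 he s hs)]

theorem acts_of_def (hX : ∀ k < n, S.Acts (X k) k) {d : List ℕ} (hd : S.okDef n d = true) :
    S.Acts (E X d) n := by
  rw [okDef, Bool.and_eq_true] at hd
  have hl : ∀ k ∈ d, k < n := fun k hk => Nat.le_of_ble_eq_true (List.all_eq_true.1 hd.1 k hk)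
  intro s hs
  obtain ⟨h1, h2⟩ := act_E hX d hl s hs
  rw [← Nat.eq_of_beq_eq_true (allRange_spec hd.2 s (Nat.zero_le _) (by omega))]
  exact ⟨h1, h2⟩

end Sys

end Cfsg.Agent.OddLocal44.M23.Fi
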